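import Groth.Agent.EtHullLib.Closure
import Groth.Agent.EtaleSplit.GeomPoint

/-! Maximal points, residue degrees and birational separated étale morphisms. -/

set_option autoImplicit false
set_option linter.style.haveILetI false

universe u
open CategoryTheory CategoryTheory.Limits AlgebraicGeometry Topology

namespace Groth.Agent.EtHullLib

/-- A point with no proper generalisation. -/
def IsMx {α : Type u} [TopologicalSpace α] (ξ : α) : Prop := ∀ y, y ⤳ ξ → y = ξ

theorem finite_isMx (α : Type u) [TopologicalSpace α] [T0Space α] [QuasiSober α]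
    [TopologicalSpace.NoetherianSpace α] : {ξ : α | IsMx ξ}.Finite := by
  refine (genericPoints.finite (α := α) TopologicalSpace.NoetherianSpace.finite_irreducibleComponents).subset
    fun ξ hξ => ?_
  show closure {ξ} ∈ irreducibleComponents α
  refine ⟨isIrreducible_singleton.closure, fun Z hZ hle => ?_⟩
  obtain ⟨η, hη⟩ := QuasiSober.sober hZ.closure isClosed_closure
  have h1 := hξ η (hη.specializes (subset_closure (hle (subset_closure rfl))))
  rw [← h1, hη.def]
  exact subset_closure

/-- Every point of a closed set has a maximal generalisation inside it. -/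
theorem exists_mx_closed {X : Scheme.{u}} (Z : Set X) (hZ : IsClosed Z) {y : X} (hy : y ∈ Z) :
    ∃ ξ ∈ Z, ξ ⤳ y ∧ ∀ z ∈ Z, z ⤳ ξ → z = ξ := by
  haveI : QuasiSober Z := hZ.isClosedEmbedding_subtypeVal.quasiSober
  let c := irreducibleComponent (⟨y, hy⟩ : Z)
  obtain ⟨ξ, hξ⟩ := QuasiSober.sober (isIrreducible_irreducibleComponent (x := (⟨y, hy⟩ : Z))) isClosed_irreducibleComponent
  refine ⟨ξ, ξ.2, (hξ.specializes mem_irreducibleComponent).map continuous_subtype_val, fun z hz hzξ => ?_⟩
  have hzξ' : (⟨z, hz⟩ : Z) ⤳ ξ := IsInducing.subtypeVal.specializes_iff.mp hzξ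
  have h1 : c ⊆ closure {(⟨z, hz⟩ : Z)} :=
    hξ.def.symm.subset.trans (closure_minimal (Set.singleton_subset_iff.mpr hzξ'.mem_closure) isClosed_closure)
  have h2 := (irreducibleComponent_mem_irreducibleComponents (⟨y, hy⟩ : Z)).2 isIrreducible_singleton.closure h1
  have h3 : ξ ⤳ (⟨z, hz⟩ : Z) := hξ.specializes (h2 (subset_closure rfl))
  exact congrArg Subtype.val (hzξ'.antisymm h3).eq

theorem isMx_map {T S : Scheme.{u}} (v : T ⟶ S) [Flat v] {ξ : T} (h : IsMx ξ) : IsMx (v ξ) := by
  intro y hy
  obtain ⟨ξ', hξ', he⟩ := Flat.generalizingMap v hy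
  rw [← he, h ξ' hξ']

/-- The degree of a field extension given by a ring map. -/
noncomputable def fdeg {A B : Type u} [CommRing A] [CommRing B] (φ : A →+* B) : ℕ :=
  letI := φ.toAlgebra
  Module.finrank A B

theorem fdeg_comp {A B C : Type u} [Field A] [Field B] [Field C] (φ : A →+* B) (ψ : B →+* C) :
    fdeg (ψ.comp φ) = fdeg φ * fdeg ψ := by
  algebraize [φ, ψ, ψ.comp φ]
  exact (Module.finrank_mul_finrank A B C).symm

theorem fdeg_pos {A B : Type u} [Field A] [Field B] (φ : A →+* B) (h : φ.Finite) : 0 < fdeg φ := by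
  algebraize [φ]
  haveI : Module.Finite A B := h
  exact Module.finrank_pos

theorem bijective_of_fdeg_eq_one {A B : Type u} [Field A] [Field B] (φ : A →+* B) (h : fdeg φ = 1) :
    Function.Bijective φ := by
  algebraize [φ]
  refine ⟨φ.injective, fun b => ?_⟩
  obtain ⟨c, hc⟩ := (finrank_eq_one_iff_of_nonzero' (1 : B) one_ne_zero).mp h b
  exact ⟨c, by rw [← hc, Algebra.smul_def, _root_.mul_one]; rfl⟩

/-- The residue degree of a point. -/
noncomputable def rdeg {T S : Scheme.{u}} (g : T ⟶ S) (e : T) : ℕ := fdeg (g.residueFieldMap e).hom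

theorem rdeg_comp {T T' S : Scheme.{u}} (v : T' ⟶ T) (g : T ⟶ S) (g' : T' ⟶ S) (h : v ≫ g = g') (e : T') :
    rdeg g' e = rdeg g (v e) * fdeg (v.residueFieldMap e).hom := by
  subst h
  show fdeg ((v ≫ g).residueFieldMap e).hom = _
  rw [Scheme.residueFieldMap_comp]
  exact fdeg_comp (g.residueFieldMap (v e)).hom (v.residueFieldMap e).hom

theorem exists_field_lift {P T : Scheme.{u}} {ζ : P} (a : Spec (P.residueField ζ) ⟶ T) (p : T)
    (h : ∀ x : Spec (P.residueField ζ), a x = p) :
    ∃ A : Spec (P.residueField ζ) ⟶ Spec (T.residueField p), A ≫ T.fromSpecResidueField p = a := by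
  obtain rfl := h (IsLocalRing.closedPoint (P.residueField ζ))
  exact ⟨_, Scheme.descResidueField_stalkClosedPointTo_fromSpecResidueField (P.residueField ζ) T a⟩

/-- A separated étale morphism which is birational on maximal points is an open immersion. -/
theorem isOpenImmersion_of_birational {T' T : Scheme.{u}} (v : T' ⟶ T) [Etale v] [IsSeparated v]
    (hinj : ∀ a b : T', IsMx a → IsMx b → v a = v b → a = b)
    (hres : ∀ a : T', IsMx a → Function.Bijective (v.residueFieldMap a)) : IsOpenImmersion v := by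
  let Δ := pullback.diagonal v
  haveI : Surjective Δ := ⟨fun z => by
    obtain ⟨ζ, hζz, hζ⟩ := Unibranch.exists_max_specializes z
    obtain ⟨a, ha⟩ : ∃ a, pullback.fst v v ζ = a := ⟨_, rfl⟩
    have hc : v (pullback.fst v v ζ) = v (pullback.snd v v ζ) := by
      rw [← Scheme.Hom.comp_apply, pullback.condition, Scheme.Hom.comp_apply]
    have hb : pullback.snd v v ζ = a := (hinj _ _ (isMx_map _ hζ) (isMx_map _ hζ) hc).symm.trans ha
    let r := (pullback v v).fromSpecResidueField ζ
    have hr : ∀ x, r x = ζ := fun x => Scheme.fromSpecResidueField_apply _ _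
    obtain ⟨A, hA⟩ := exists_field_lift (r ≫ pullback.fst v v) a (fun x => by rw [Scheme.Hom.comp_apply, hr, ha])
    obtain ⟨B, hB⟩ := exists_field_lift (r ≫ pullback.snd v v) a (fun x => by rw [Scheme.Hom.comp_apply, hr, hb])
    haveI : IsIso (v.residueFieldMap a) :=
      (ConcreteCategory.isIso_iff_bijective _).mpr (hres a (ha ▸ isMx_map _ hζ))
    have e : A ≫ Spec.map (v.residueFieldMap a) = B ≫ Spec.map (v.residueFieldMap a) := by
      rw [← cancel_mono (T.fromSpecResidueField (v a)), Category.assoc, Category.assoc,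
        Scheme.Hom.SpecMap_residueFieldMap_fromSpecResidueField, reassoc_of% hA, reassoc_of% hB]
      exact congrArg (r ≫ ·) pullback.condition
    rw [cancel_mono] at e
    have hh : r = (r ≫ pullback.fst v v) ≫ Δ := by
      refine pullback.hom_ext ?_ ?_
      · rw [Category.assoc _ Δ, pullback.diagonal_fst, Category.comp_id]
      · rw [Category.assoc _ Δ, pullback.diagonal_snd, Category.comp_id, ← hA, ← hB, e]
    obtain ⟨x₀⟩ : Nonempty ↥(Spec ((pullback v v).residueField ζ)) := ⟨IsLocalRing.closedPoint ((pullback v v).residueField ζ)⟩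
    have hmem : ζ ∈ Set.range Δ := ⟨(r ≫ pullback.fst v v) x₀, by
      rw [← Scheme.Hom.comp_apply, ← hh, hr]⟩
    exact hζz.mem_closed Δ.isClosedEmbedding.isClosed_range hmem⟩
  haveI : Epi Δ.base := (TopCat.epi_iff_surjective _).mpr Δ.surjective
  haveI : IsIso Δ := IsOpenImmersion.isIso Δ
  haveI : Mono v := pullback.isIso_diagonal_iff v |>.1 inferInstance
  exact IsOpenImmersion.of_flat_of_mono v

/-- Maps out of a scheme agreeing after a schematically dominant map agree, for a separated target. -/
theorem eq_of_dominant {X E E' S : Scheme.{u}} (u : X ⟶ E) [IsSchemeTheoreticallyDominant u]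
    (v v' : E ⟶ E') (g' : E' ⟶ S) [IsSeparated g'] (h : v ≫ g' = v' ≫ g') (hu : u ≫ v = u ≫ v') : v = v' := by
  let l : E ⟶ pullback g' g' := pullback.lift v v' h
  let e := pullback.fst l (pullback.diagonal g')
  let k : X ⟶ pullback l (pullback.diagonal g') := pullback.lift u (u ≫ v) (by
    apply pullback.hom_ext
    · simp only [l, Category.assoc, pullback.lift_fst, pullback.diagonal_fst, Category.comp_id]
    · simp only [l, Category.assoc, pullback.lift_snd, pullback.diagonal_snd, Category.comp_id, hu])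
  haveI : IsClosedImmersion e := IsClosedImmersion.isStableUnderBaseChange.{u}.of_isPullback (IsPullback.of_hasPullback l (pullback.diagonal g')).flip inferInstance
  have hker : e.ker ≤ u.ker := by
    rw [← show k ≫ e = u from pullback.lift_fst _ _ _]
    exact Scheme.Hom.le_ker_comp k e
  rw [u.ker_eq_bot] at hker
  haveI : IsIso e := IsClosedImmersion.isIso_iff_ker_eq_bot.2 (le_bot_iff.mp hker)
  have h1 : e ≫ v = pullback.snd l (pullback.diagonal g') := by
    have := congrArg (· ≫ pullback.fst g' g') (pullback.condition (f := l) (g := pullback.diagonal g'))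
    simp only [Category.assoc, l, pullback.lift_fst, pullback.diagonal_fst, Category.comp_id] at this
    exact this
  have h2 : e ≫ v' = pullback.snd l (pullback.diagonal g') := by
    have := congrArg (· ≫ pullback.snd g' g') (pullback.condition (f := l) (g := pullback.diagonal g'))
    simp only [Category.assoc, l, pullback.lift_snd, pullback.diagonal_snd, Category.comp_id] at this
    exact this
  exact (cancel_epi e).mp (h1.trans h2.symm)

/-- Two proper generalisations in a chain force dimension at least two. -/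
theorem not_ringKrullDim_le_one {E : Scheme.{u}} [IsLocallyNoetherian E] {z y ξ : E} (hzy : z ⤳ y) (hne₁ : z ≠ y)
    (hyξ : y ⤳ ξ) (hne₂ : y ≠ ξ) : ¬ ringKrullDim (E.presheaf.stalk ξ) ≤ 1 := by
  obtain ⟨W, hW, hxW, -⟩ := AssLib.exists_affine_mem ξ (U := ⊤) trivial
  haveI := QCohLib.isNoetherianRing_section hW
  have hyW : y ∈ W := hyξ.mem_open W.2 hxW
  have hzW : z ∈ W := hzy.mem_open W.2 hyW
  have lt : ∀ {a b : E} (ha : a ∈ W) (hb : b ∈ W), a ⤳ b → a ≠ b → AssLib.pr hW ha < AssLib.pr hW hb := by
    intro a b ha hb hab hne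
    refine lt_of_le_not_ge ((AssLib.specializes_iff hW hb ha).mp hab) fun hle => hne ?_
    exact (hab.antisymm ((AssLib.specializes_iff hW ha hb).mpr hle)).eq
  have h1 := Ideal.height_strict_mono_of_isPrime (lt hzW hyW hzy hne₁)
  have h2 := Ideal.height_strict_mono_of_isPrime (lt hyW hxW hyξ hne₂)
  letI : Algebra Γ(E, W) (E.presheaf.stalk ξ) := TopCat.Presheaf.algebra_section_stalk E.presheaf ⟨ξ, hxW⟩
  haveI := hW.isLocalization_stalk ⟨ξ, hxW⟩
  rw [IsLocalization.AtPrime.ringKrullDim_eq_height (AssLib.pr hW hxW) (E.presheaf.stalk ξ),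
    ← WithBot.coe_one, WithBot.coe_le_coe]
  intro h3
  have h4 := lt_of_lt_of_le h2 h3
  exact absurd (lt_of_le_of_lt bot_le h1) (by rw [ENat.lt_one_iff_eq_zero.mp h4]; exact not_lt_bot)

end Groth.Agent.EtHullLib
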