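import Groth.Agent.ASp.UnramDiag
import Groth.Agent.RatDense.Basic
import Groth.Agent.Unibranch.Components
import Groth.Agent.GeomQuotLib.Fpqc
import Groth.Agent.S1699

/-! Schematic closures of opens in schemes étale over a geometrically unibranch base without embedded points. -/

set_option autoImplicit false
set_option linter.style.haveILetI false

universe u
open CategoryTheory CategoryTheory.Limits AlgebraicGeometry Topology Opposite

namespace Groth.Agent.EtHullLib

theorem eq_of_specializes {T S : Scheme.{u}} (g : T ⟶ S) [LocallyQuasiFinite g] {η x : T}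
    (h : η ⤳ x) (e : g η = g x) : η = x := by
  haveI := isDiscrete_iff_discreteTopology.mp (g.isDiscrete_preimage_singleton (g x))
  exact congrArg Subtype.val (specializes_iff_eq.mp
    ((IsInducing.subtypeVal).specializes_iff (x := (⟨η, e⟩ : ↥(g ⁻¹' {g x})))
      (y := ⟨x, rfl⟩) |>.mp h))

/-- An associated maximal ideal of a flat local algebra lies over an associated maximal ideal. -/
theorem isAssociatedPrime_of_flat (R B : Type u) [CommRing R] [CommRing B] [IsLocalRing R] [IsLocalRing B]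
    [IsNoetherianRing R] [IsNoetherianRing B] [Algebra R B] [IsLocalHom (algebraMap R B)] [Module.Flat R B]
    (h : IsAssociatedPrime (IsLocalRing.maximalIdeal B) B) : IsAssociatedPrime (IsLocalRing.maximalIdeal R) R := by
  classical
  by_contra hR
  have hsub : ¬ (IsLocalRing.maximalIdeal R : Set R) ⊆ ⋃ P ∈ (associatedPrimes.finite R R).toFinset, (P : Set R) := by
    intro hc
    obtain ⟨P, hP, hle⟩ := (Ideal.subset_union_prime (f := fun P : Ideal R => P) ⊥ ⊥
      fun i hi _ _ => ((associatedPrimes.finite R R).mem_toFinset.mp hi).isPrime).mp hc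
    rw [Set.Finite.mem_toFinset] at hP
    exact hR ((IsLocalRing.maximalIdeal.isMaximal R).eq_of_le hP.isPrime.ne_top hle ▸ hP)
  obtain ⟨r, hr, hr'⟩ := Set.not_subset.mp hsub
  have hreg : IsSMulRegular R r := by
    by_contra hn
    apply hr'
    have : r ∈ ⋃ P ∈ associatedPrimes R R, (P : Set R) := by rw [biUnion_associatedPrimes_eq_compl_regular]; exact hn
    simpa [Set.Finite.mem_toFinset] using this
  have hB : IsSMulRegular B (algebraMap R B r) := hreg.of_flat
  obtain ⟨hp, b, hb⟩ := isAssociatedPrime_iff.mp h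
  have hmem : algebraMap R B r ∈ IsLocalRing.maximalIdeal B := by
    rw [IsLocalRing.mem_maximalIdeal, mem_nonunits_iff]
    exact fun hu => hr (IsUnit.of_map _ _ hu)
  rw [hb, Submodule.mem_colon_singleton, Submodule.mem_bot, ] at hmem
  have hb0 : b = 0 := hB (hmem.trans (smul_zero (algebraMap R B r)).symm)
  exact hp.ne_top (hb.trans (by rw [hb0]; ext; simp))

/-- Flatness cancels on the left of an étale morphism. -/
theorem flat_of_comp_etale {Z V U : Scheme.{u}} (g : Z ⟶ V) (b : V ⟶ U) [Etale b] (h : Flat (g ≫ b)) : Flat g := by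
  let s : Z ⟶ pullback (g ≫ b) b := pullback.lift (𝟙 Z) g (by simp)
  haveI : Etale s := by
    refine MorphismProperty.HasOfPostcompProperty.of_postcomp (W := @Etale) s (pullback.fst (g ≫ b) b)
      (show Etale (pullback.fst (g ≫ b) b) from inferInstance) ?_
    rw [pullback.lift_fst]
    infer_instance
  haveI := h
  rw [show g = s ≫ pullback.snd (g ≫ b) b from (pullback.lift_snd _ _ _).symm]
  infer_instance

theorem ker_ι_eq_bot {V : Scheme.{u}} {W : V.Opens} (hW : CInt.IsSchematicallyDense W) : W.ι.ker = ⊥ := by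
  refine le_bot_iff.1 fun A a ha => ?_
  have h2 : W.ι.app A.1 a = 0 := W.ι.ideal_ker_le A ha
  rw [Scheme.Opens.ι_app] at h2
  have hle : A.1 ⊓ W ≤ W.ι ''ᵁ (W.ι ⁻¹ᵁ A.1) := by
    rw [Scheme.Hom.image_preimage_eq_opensRange_inf, Scheme.Opens.opensRange_ι, inf_comm]
  rw [Scheme.IdealSheafData.ideal_bot]
  exact RatDense.eq_zero_of_res hW a (RatDense.res_eq_zero_mono _ hle h2)

variable {T S : Scheme.{u}} (g : T ⟶ S) [Etale g] [IsLocallyNoetherian S]

include g in
theorem eventually_specializes (hS : ∀ s : S, CAlg2.IsGeomUnibranch (S.presheaf.stalk s))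
    {t η : T} (hη : η ⤳ t) (hm : ∀ η', η' ⤳ η → η' = η) : ∀ᶠ x in 𝓝 t, η ⤳ x := by
  haveI : IsLocallyNoetherian T := LocallyOfFiniteType.isLocallyNoetherian g
  refine Unibranch.eventually_specializes_of_finite g (fun W U hW hU _ => ?_) t (hS _) η hη hm
  haveI : IsNoetherianRing Γ(T, U) := IsLocallyNoetherian.component_noetherian ⟨U, hU⟩
  exact minimalPrimes.finite_of_isNoetherianRing _

include g in
theorem max_unique (hS : ∀ s : S, CAlg2.IsGeomUnibranch (S.presheaf.stalk s))
    {t η₁ η₂ : T} (h₁ : η₁ ⤳ t) (hm₁ : ∀ η', η' ⤳ η₁ → η' = η₁)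
    (h₂ : η₂ ⤳ t) (hm₂ : ∀ η', η' ⤳ η₂ → η' = η₂) : η₁ = η₂ := by
  obtain ⟨W, hW, hWo, htW⟩ := eventually_nhds_iff.mp (eventually_specializes g hS h₁ hm₁)
  exact hm₂ η₁ (hW η₂ (h₂.mem_open hWo htW))

include g in
/-- An open containing all the maximal points is schematically dense. -/
theorem isSchematicallyDense_of_max (hemb : AssSch.NoEmbedded (Coh.structureModule S))
    (U : T.Opens) (hU : ∀ η : T, (∀ η', η' ⤳ η → η' = η) → η ∈ U) : CInt.IsSchematicallyDense U := by
  haveI : IsLocallyNoetherian T := LocallyOfFiniteType.isLocallyNoetherian g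
  haveI := Unibranch.locallyQuasiFinite_of_etale g
  refine (S1699.result T U).mpr fun x hx => ?_
  obtain ⟨η, hηx, hm⟩ := Unibranch.exists_max_specializes x
  have hηA : η ∈ AssSch.Ass (Coh.structureModule T) := by
    refine AssLib.isAssPoint_of_minimal (M := Coh.structureModule T) ?_ fun y _ hy => hm y hy
    refine (subsingleton_or_nontrivial _).resolve_left fun hsub => ?_
    obtain ⟨W, hW, hyW, -⟩ := AssLib.exists_affine_mem η (U := ⊤) trivial
    obtain ⟨a, ha, ha0⟩ := (AssLib.germ_eq_zero_iff (M := Coh.structureModule T) hW hyW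
      (1 : Γ(T, W))).mp (Subsingleton.elim _ _)
    have ha0' : a * 1 = (0 : Γ(T, W)) := ha0
    rw [mul_one] at ha0'
    exact ha (ha0' ▸ Submodule.zero_mem _)
  have hxA : x ∈ AssSch.Ass (Coh.structureModule T) := (AssLib.isAssPoint_structureModule_iff x).mpr hx
  have key : ∀ z ∈ AssSch.Ass (Coh.structureModule T), g z ∈ AssSch.Ass (Coh.structureModule S) := by
    intro z hz
    letI : Algebra (S.presheaf.stalk (g z)) (T.presheaf.stalk z) := (g.stalkMap z).hom.toAlgebra
    haveI : IsLocalHom (algebraMap (S.presheaf.stalk (g z)) (T.presheaf.stalk z)) := g.toLRSHom.prop z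
    haveI : Module.Flat (S.presheaf.stalk (g z)) (T.presheaf.stalk z) := Flat.stalkMap g z
    exact (AssLib.isAssPoint_structureModule_iff (g z)).mpr
      (isAssociatedPrime_of_flat _ _ ((AssLib.isAssPoint_structureModule_iff z).mp hz))
  have he := hemb _ (key x hxA) _ (key η hηA) (hηx.map g.continuous)
  rw [← eq_of_specializes g hηx he.symm]
  exact hU η hm

include g in
/-- Every open has a clopen in which it is schematically dense. -/
theorem exists_clopen_closure (hS : ∀ s : S, CAlg2.IsGeomUnibranch (S.presheaf.stalk s))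
    (hemb : AssSch.NoEmbedded (Coh.structureModule S)) (U : T.Opens) :
    ∃ C : T.Opens, IsClosed (C : Set T) ∧ U ≤ C ∧ CInt.IsSchematicallyDense (C.ι ⁻¹ᵁ U) := by
  let P : T → T → Prop := fun η x => η ⤳ x ∧ ∀ η', η' ⤳ η → η' = η
  have hop : ∀ Q : T → Prop, IsOpen {x : T | ∃ η, Q η ∧ P η x} := fun Q =>
    isOpen_iff_mem_nhds.mpr fun x ⟨η, hQ, hη, hm⟩ =>
      Filter.mem_of_superset (eventually_specializes g hS hη hm) fun y hy => ⟨η, hQ, hy, hm⟩
  let C : T.Opens := ⟨{x : T | ∃ η, η ∈ U ∧ P η x}, hop _⟩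
  have hUC : U ≤ C := fun x hx => by
    obtain ⟨η, hη, hm⟩ := Unibranch.exists_max_specializes x
    exact ⟨η, hη.mem_open U.2 hx, hη, hm⟩
  refine ⟨C, ?_, hUC, ?_⟩
  · rw [← isOpen_compl_iff]
    convert hop (fun η => η ∉ U) using 1
    ext x
    constructor
    · intro hx
      obtain ⟨η, hη, hm⟩ := Unibranch.exists_max_specializes x
      exact ⟨η, fun hηU => hx ⟨η, hηU, hη, hm⟩, hη, hm⟩
    · rintro ⟨η, hηU, hη, hm⟩ ⟨η', hη'U, hη', hm'⟩
      exact hηU (max_unique g hS hη hm hη' hm' ▸ hη'U)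
  · refine isSchematicallyDense_of_max (C.ι ≫ g) hemb _ fun η hm => ?_
    obtain ⟨ξ, hξU, hξ, hξm⟩ := η.2
    have hξC : ξ ∈ C := ⟨ξ, hξU, specializes_rfl, hξm⟩
    have := hm ⟨ξ, hξC⟩ (Topology.IsInducing.subtypeVal.specializes_iff.mp hξ)
    show η.1 ∈ U
    rw [← this]
    exact hξU

/-- A quasi-compact flat surjection is schematically dominant. -/
theorem isSchemeTheoreticallyDominant_of_flat {X Y : Scheme.{u}} (p : X ⟶ Y) [Flat p] [Surjective p]
    [QuasiCompact p] : IsSchemeTheoreticallyDominant p := by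
  refine GeomQuotLib.isSchemeTheoreticallyDominant_of_injective p fun V => ?_
  rw [injective_iff_map_eq_zero]
  intro s hs
  refine TopCat.Presheaf.section_ext Y.sheaf V s 0 fun y hy => ?_
  obtain ⟨x, rfl⟩ := p.surjective y
  algebraize [(p.stalkMap x).hom]
  haveI : IsLocalHom (algebraMap (Y.presheaf.stalk (p x)) (X.presheaf.stalk x)) :=
    p.toLRSHom.prop x
  haveI : Module.Flat (Y.presheaf.stalk (p x)) (X.presheaf.stalk x) := Flat.stalkMap p x
  haveI := Module.FaithfullyFlat.of_flat_of_isLocalHom (A := Y.presheaf.stalk (p x)) (B := X.presheaf.stalk x)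
  have hinj : Function.Injective (p.stalkMap x).hom :=
    FaithfulSMul.algebraMap_injective (Y.presheaf.stalk (p x)) (X.presheaf.stalk x)
  refine hinj (Eq.trans (p.germ_stalkMap_apply V x hy s) ?_)
  rw [hs, map_zero]
  exact (map_zero _).symm.trans (congrArg _ (map_zero _).symm)

/-- A flat finitely presented morphism into a scheme étale over the base has a clopen schematic image. -/
theorem exists_clopen_image (hS : ∀ s : S, CAlg2.IsGeomUnibranch (S.presheaf.stalk s))
    (hemb : AssSch.NoEmbedded (Coh.structureModule S)) {X : Scheme.{u}} (u : X ⟶ T) [Flat u]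
    [LocallyOfFinitePresentation u] [QuasiCompact u] [IsSeparated g] :
    ∃ C : T.Opens, IsClosed (C : Set T) ∧ ∃ v : X ⟶ (C : Scheme.{u}),
      IsSchemeTheoreticallyDominant v ∧ v ≫ C.ι = u := by
  let U : T.Opens := ⟨Set.range u, u.isOpenMap.isOpen_range⟩
  obtain ⟨C, hC, hUC, hd⟩ := exists_clopen_closure g hS hemb U
  have hr : Set.range u ⊆ Set.range C.ι := by rw [Scheme.Opens.range_ι]; exact hUC
  let p : X ⟶ (U : Scheme.{u}) := IsOpenImmersion.lift U.ι u (by rw [Scheme.Opens.range_ι]; exact subset_rfl)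
  have hp : p ≫ U.ι = u := IsOpenImmersion.lift_fac _ _ _
  have hps : p ≫ T.homOfLE hUC ≫ C.ι = u := by rw [Scheme.homOfLE_ι, hp]
  haveI : Flat p := flat_of_comp_etale p U.ι (by rw [hp]; infer_instance)
  haveI : QuasiCompact p := by
    haveI : QuasiCompact (p ≫ U.ι) := by rw [hp]; infer_instance
    exact QuasiCompact.of_comp p U.ι
  haveI : Surjective p := ⟨fun y => by
    obtain ⟨x, hx⟩ := y.2
    refine ⟨x, U.ι.isOpenEmbedding.injective ?_⟩
    rw [← Scheme.Hom.comp_apply, hp]
    exact hx⟩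
  haveI := isSchemeTheoreticallyDominant_of_flat p
  haveI : IsSchemeTheoreticallyDominant (T.homOfLE hUC) := by
    have h1 := ker_ι_eq_bot hd
    have hr2 : Set.range (T.homOfLE hUC) = Set.range (C.ι ⁻¹ᵁ U).ι := by
      rw [Scheme.Opens.range_ι, ← Scheme.Hom.coe_opensRange, Scheme.opensRange_homOfLE]
    haveI : IsSchemeTheoreticallyDominant (C.ι ⁻¹ᵁ U).ι := ⟨h1⟩
    rw [← IsOpenImmersion.isoOfRangeEq_hom_fac (T.homOfLE hUC) (C.ι ⁻¹ᵁ U).ι hr2]
    infer_instance
  exact ⟨C, hC, p ≫ T.homOfLE hUC, inferInstance, by rw [Category.assoc, hps]⟩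

end Groth.Agent.EtHullLib
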