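import Groth.Agent.EtHullLib.Birational
import Groth.Agent.QFinLib

/-! Admissible étale affine factorisations and their greatest elements. -/

set_option autoImplicit false
set_option linter.style.haveILetI false
set_option backward.isDefEq.respectTransparency false

universe u
open CategoryTheory CategoryTheory.Limits AlgebraicGeometry Topology

namespace Groth.Agent.EtHullLib

/-- A factorisation through an étale affine scheme with schematically dominant first map. -/
structure Fac {X S : Scheme.{u}} (f : X ⟶ S) where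
  E : Scheme.{u}
  g : E ⟶ S
  u : X ⟶ E
  et : Etale g
  aff : IsAffineHom g
  dom : IsSchemeTheoreticallyDominant u
  w : u ≫ g = f

attribute [instance] Fac.et Fac.aff Fac.dom

variable {X S : Scheme.{u}} [IsNoetherian S] {f : X ⟶ S} [Flat f] [LocallyOfFinitePresentation f] [QuasiCompact f]

/-- A map of factorisations. -/
def Fac.Maps (A B : Fac f) : Prop := ∃ v : A.E ⟶ B.E, A.u ≫ v = B.u ∧ v ≫ B.g = A.g

theorem Fac.flat_u (A : Fac f) : Flat A.u := flat_of_comp_etale A.u A.g (by rw [A.w]; infer_instance)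

theorem Fac.qc_u (A : Fac f) : QuasiCompact A.u := by
  haveI : QuasiCompact (A.u ≫ A.g) := by rw [A.w]; infer_instance
  exact QuasiCompact.of_comp A.u A.g

theorem isNoetherian_of_hom {T : Scheme.{u}} (g : T ⟶ S) [LocallyOfFiniteType g] [QuasiCompact g] : IsNoetherian T := by
  haveI : IsLocallyNoetherian T := LocallyOfFiniteType.isLocallyNoetherian g
  haveI : CompactSpace T := QuasiCompact.compactSpace_of_compactSpace g
  exact ⟨⟩

theorem Fac.noeth (A : Fac f) : IsNoetherian A.E := isNoetherian_of_hom A.g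

theorem Fac.lfp_u (A : Fac f) : LocallyOfFinitePresentation A.u := by
  haveI := A.noeth
  haveI : LocallyOfFiniteType (A.u ≫ A.g) := by rw [A.w]; infer_instance
  haveI : LocallyOfFiniteType A.u := locallyOfFiniteType_of_comp A.u A.g
  exact LocallyOfFinitePresentation.iff_locallyOfFiniteType.mpr inferInstance

/-- The maximal points. -/
noncomputable def Fac.mxs (A : Fac f) : Finset A.E :=
  haveI := A.noeth
  (finite_isMx A.E).toFinset

theorem Fac.mem_mxs (A : Fac f) (e : A.E) : e ∈ A.mxs ↔ IsMx e := Set.Finite.mem_toFinset _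

/-- The total degree over the maximal points of the base. -/
noncomputable def Fac.n (A : Fac f) : ℕ := ∑ e ∈ A.mxs, rdeg A.g e

theorem Fac.exists_max_pre (A : Fac f) {e : A.E} (he : IsMx e) : ∃ ξ : X, IsMx ξ ∧ A.u ξ = e := by
  haveI := A.flat_u; haveI := A.lfp_u; haveI := A.qc_u; haveI := A.noeth
  let U : A.E.Opens := ⟨Set.range A.u, A.u.isOpenMap.isOpen_range⟩
  haveI : IsDominant A.u := inferInstance
  obtain ⟨x, rfl⟩ : e ∈ U := AssLib.mem_of_mem_closure_of_maximal he (by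
    show e ∈ closure (Set.range A.u)
    rw [A.u.denseRange.closure_eq]; trivial)
  obtain ⟨ξ, hξx, hξ⟩ := Unibranch.exists_max_specializes x
  exact ⟨ξ, hξ, he _ (hξx.map A.u.continuous)⟩

theorem Fac.rdeg_pos (A : Fac f) (e : A.E) : 0 < rdeg A.g e := by
  haveI := Unibranch.locallyQuasiFinite_of_etale A.g
  exact fdeg_pos _ (EtaleSplit.finite_residueFieldMap A.g e (A.g.quasiFiniteAt e))

/-- A point has a specialisation in its fibre with finite residue extension. -/
theorem exists_finite_specialization (ξ : X) :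
    ∃ x : X, ξ ⤳ x ∧ f x = f ξ ∧ (f.residueFieldMap x).hom.Finite := by
  haveI : LocallyOfFiniteType (f.fiberToSpecResidueField (f ξ)) :=
    MorphismProperty.pullback_snd _ _ inferInstance
  haveI : JacobsonSpace ↥(f.fiber (f ξ)) :=
    LocallyOfFiniteType.jacobsonSpace (f.fiberToSpecResidueField (f ξ))
  obtain ⟨z, hz, hzc⟩ := nonempty_inter_closedPoints (Z := closure {f.asFiber ξ})
    ⟨_, subset_closure rfl⟩ isClosed_closure.isLocallyClosed
  have h1 : ξ ⤳ f.fiberι (f ξ) z := by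
    have := (specializes_iff_mem_closure.mpr hz).map (f.fiberι (f ξ)).continuous
    rwa [f.fiberι_asFiber ξ] at this
  have key : ∀ (s : S) (w : ↥(f.fiber s)), IsClosed ({w} : Set ↥(f.fiber s)) →
      f (f.fiberι s w) = s ∧ (f.residueFieldMap (f.fiberι s w)).hom.Finite := by
    intro s w hw
    have hs : f (f.fiberι s w) = s := by
      have : f.fiberι s w ∈ Set.range (f.fiberι s) := ⟨w, rfl⟩
      rwa [f.range_fiberι] at this
    refine ⟨hs, ?_⟩
    generalize hx : f.fiberι s w = x at hs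
    subst hs
    obtain rfl : w = f.asFiber x := (f.fiberι (f x)).isEmbedding.injective (hx.trans (f.fiberι_asFiber x).symm)
    exact (QFinLib.isClosed_asFiber_iff f x).1 hw
  exact ⟨_, h1, key _ z hzc⟩

theorem bound_aux : ∃ N, ∀ A : Fac f, A.n ≤ N := by
  classical
  haveI : IsNoetherian X := isNoetherian_of_hom f
  choose x hx hfx hfin using exists_finite_specialization (f := f)
  refine ⟨∑ ξ ∈ (finite_isMx X).toFinset, rdeg f (x ξ), fun A => ?_⟩
  haveI := Unibranch.locallyQuasiFinite_of_etale A.g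
  choose p hp hpu using fun (e : A.mxs) => A.exists_max_pre ((A.mem_mxs e.1).mp e.2)
  have hd : ∀ e : A.mxs, rdeg A.g e.1 ≤ rdeg f (x (p e)) := by
    intro e
    have hux : A.u (x (p e)) = e.1 := by
      refine (eq_of_specializes A.g ?_ ?_).symm
      · rw [← hpu e]; exact (hx (p e)).map A.u.continuous
      · rw [← hpu e, ← Scheme.Hom.comp_apply, ← Scheme.Hom.comp_apply, A.w, hfx]
    have h := rdeg_comp A.u A.g f A.w (x (p e))
    have hpos : 0 < rdeg f (x (p e)) := fdeg_pos _ (hfin _)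
    rw [← hux, h]
    exact Nat.le_mul_of_pos_right _ (Nat.pos_of_mul_pos_left (h ▸ hpos))
  have hinj : Function.Injective p := fun a b h => Subtype.ext (by rw [← hpu a, ← hpu b, h])
  calc A.n = ∑ e ∈ A.mxs.attach, rdeg A.g e.1 := (Finset.sum_attach _ _).symm
    _ ≤ ∑ e ∈ A.mxs.attach, rdeg f (x (p e)) := Finset.sum_le_sum fun e _ => hd e
    _ = ∑ ξ ∈ A.mxs.attach.image p, rdeg f (x ξ) := (Finset.sum_image (f := fun ξ => rdeg f (x ξ)) fun a _ b _ h => hinj h).symm
    _ ≤ _ := Finset.sum_le_sum_of_subset fun ξ hξ => by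
      obtain ⟨e, -, rfl⟩ := Finset.mem_image.mp hξ
      exact (Set.Finite.mem_toFinset _).mpr (hp e)

/-- Maps of factorisations increase the degree, and are open immersions when it does not. -/
theorem Fac.compare {A B : Fac f} (v : A.E ⟶ B.E) (hu : A.u ≫ v = B.u) (hg : v ≫ B.g = A.g) :
    B.n ≤ A.n ∧ (A.n ≤ B.n → IsOpenImmersion v) := by
  classical
  haveI : Flat v := flat_of_comp_etale v B.g (by rw [hg]; infer_instance)
  choose p hp hpu using fun (e : B.mxs) => B.exists_max_pre ((B.mem_mxs e.1).mp e.2)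
  haveI := A.flat_u
  let s : B.mxs → A.E := fun e => A.u (p e)
  have hvs : ∀ e : B.mxs, v (s e) = e.1 := fun e => by rw [← hpu e, ← hu, Scheme.Hom.comp_apply]
  have hs : ∀ e, s e ∈ A.mxs := fun e => (A.mem_mxs _).mpr (isMx_map A.u (hp e))
  have hd : ∀ e : B.mxs, rdeg A.g (s e) = rdeg B.g e.1 * fdeg (v.residueFieldMap (s e)).hom := fun e => by
    exact (rdeg_comp v B.g A.g hg (s e)).trans (congrArg (· * _) (congrArg (rdeg B.g) (hvs e)))
  have hd' : ∀ e : B.mxs, rdeg B.g e.1 ≤ rdeg A.g (s e) := fun e => by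
    rw [hd e]
    exact Nat.le_mul_of_pos_right _ (Nat.pos_of_mul_pos_left (hd e ▸ A.rdeg_pos (s e)))
  have hinj : Function.Injective s := fun a b h => Subtype.ext (by rw [← hvs a, ← hvs b, h])
  have h1 : B.n = ∑ e ∈ B.mxs.attach, rdeg B.g e.1 := (Finset.sum_attach _ _).symm
  have h2 : ∑ e ∈ B.mxs.attach, rdeg A.g (s e) = ∑ a ∈ B.mxs.attach.image s, rdeg A.g a :=
    (Finset.sum_image fun a _ b _ h => hinj h).symm
  have hsub : B.mxs.attach.image s ⊆ A.mxs := fun a ha => by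
    obtain ⟨e, -, rfl⟩ := Finset.mem_image.mp ha
    exact hs e
  have h3 : B.n ≤ ∑ a ∈ B.mxs.attach.image s, rdeg A.g a := by
    rw [h1, ← h2]; exact Finset.sum_le_sum fun e _ => hd' e
  have h4 : ∑ a ∈ B.mxs.attach.image s, rdeg A.g a ≤ A.n := Finset.sum_le_sum_of_subset hsub
  refine ⟨h3.trans h4, fun hle => ?_⟩
  have himg : ∀ a, IsMx a → ∃ e, s e = a := by
    intro a ha
    by_contra hc
    have hlt : ∑ a ∈ B.mxs.attach.image s, rdeg A.g a < A.n :=
      Finset.sum_lt_sum_of_subset hsub ((A.mem_mxs a).mpr ha)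
        (fun h => hc (by obtain ⟨e, -, he⟩ := Finset.mem_image.mp h; exact ⟨e, he⟩)) (A.rdeg_pos a)
        (fun j _ _ => Nat.zero_le _)
    exact absurd (lt_of_le_of_lt h3 hlt) (not_lt.mpr hle)
  have heq : ∀ e : B.mxs, fdeg (v.residueFieldMap (s e)).hom = 1 := by
    intro e
    have hsum : ∑ e ∈ B.mxs.attach, rdeg B.g e.1 = ∑ e ∈ B.mxs.attach, rdeg A.g (s e) := by
      rw [h2, ← h1]; exact le_antisymm h3 (h4.trans hle)
    have h5 := (Finset.sum_eq_sum_iff_of_le fun e _ => hd' e).mp hsum e (Finset.mem_attach _ _)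
    rw [hd e] at h5
    exact Nat.eq_of_mul_eq_mul_left (B.rdeg_pos e.1) (by rw [← h5, Nat.mul_one])
  haveI : Etale v := MorphismProperty.HasOfPostcompProperty.of_postcomp (W := @Etale) v B.g
    (show Etale B.g from inferInstance) (by rw [hg]; exact A.et)
  haveI : IsSeparated v := by
    haveI : IsSeparated (v ≫ B.g) := by rw [hg]; infer_instance
    exact IsSeparated.of_comp v B.g
  refine isOpenImmersion_of_birational v (fun a b ha hb h => ?_) (fun a ha => ?_)
  · obtain ⟨ea, rfl⟩ := himg a ha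
    obtain ⟨eb, rfl⟩ := himg b hb
    rw [hvs, hvs] at h
    rw [Subtype.ext h]
  · obtain ⟨e, rfl⟩ := himg a ha
    exact bijective_of_fdeg_eq_one _ (heq e)

/-- A family of factorisations with suprema has a greatest element. -/
theorem exists_greatest (Q : Fac f → Prop) (hne : ∃ A, Q A)
    (hsup : ∀ A B, Q A → Q B → ∃ C, Q C ∧ C.Maps A ∧ C.Maps B) :
    ∃ M, Q M ∧ ∀ A, Q A → M.Maps A := by
  classical
  obtain ⟨N, hN⟩ := bound_aux (f := f)
  have hb : BddAbove {k | ∃ A, Q A ∧ Fac.n A = k} := ⟨N, by rintro k ⟨A, -, rfl⟩; exact hN A⟩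
  obtain ⟨M₁, hQ₁, hM₁⟩ : sSup {k | ∃ A, Q A ∧ Fac.n A = k} ∈ {k | ∃ A, Q A ∧ Fac.n A = k} :=
    Nat.sSup_mem (by obtain ⟨A, hA⟩ := hne; exact ⟨_, A, hA, rfl⟩) hb
  have hmax : ∀ A, Q A → A.n ≤ M₁.n := fun A hA => hM₁ ▸ le_csSup hb ⟨A, hA, rfl⟩
  haveI := M₁.noeth; haveI := M₁.flat_u; haveI := M₁.lfp_u
  let U : M₁.E.Opens := ⟨Set.range M₁.u, M₁.u.isOpenMap.isOpen_range⟩
  let Z : Set M₁.E := (U : Set M₁.E)ᶜ
  have hZ : IsClosed Z := U.isOpen.isClosed_compl
  let Bad : Set M₁.E := {ξ | ξ ∈ Z ∧ ∀ y ∈ Z, y ⤳ ξ → y = ξ}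
  have hBad : Bad.Finite := by
    haveI : QuasiSober Z := hZ.isClosedEmbedding_subtypeVal.quasiSober
    refine ((finite_isMx Z).image Subtype.val).subset fun ξ hξ => ⟨⟨ξ, hξ.1⟩, fun y hy => ?_, rfl⟩
    exact Subtype.ext (hξ.2 y.1 y.2 (hy.map continuous_subtype_val))
  let c : Set M₁.E → ℕ := fun R => (hBad.toFinset.filter fun ξ => ξ ∉ R).card
  let K : Set ℕ := {k | ∃ (A : Fac f) (v : A.E ⟶ M₁.E), Q A ∧ A.u ≫ v = M₁.u ∧ v ≫ M₁.g = A.g ∧ c (Set.range v) = k}
  have hKb : BddAbove K := ⟨hBad.toFinset.card, by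
    rintro k ⟨A, v, -, -, -, rfl⟩; exact Finset.card_filter_le _ _⟩
  obtain ⟨M₂, v₂, hQ₂, hu₂, hg₂, hc₂⟩ : sSup K ∈ K :=
    Nat.sSup_mem ⟨_, M₁, 𝟙 _, hQ₁, Category.comp_id _, Category.id_comp _, rfl⟩ hKb
  refine ⟨M₂, hQ₂, fun A hA => ?_⟩
  obtain ⟨C, hQC, ⟨w, hwu, hwg⟩, ⟨z, hzu, hzg⟩⟩ := hsup M₂ A hQ₂ hA
  obtain ⟨h21, hv₂⟩ := Fac.compare v₂ hu₂ hg₂
  haveI := hv₂ (hmax M₂ hQ₂)
  obtain ⟨h22, hw⟩ := Fac.compare w hwu hwg
  haveI := hw ((hmax C hQC).trans h21)
  let v := w ≫ v₂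
  have hvu : C.u ≫ v = M₁.u := by rw [← Category.assoc, hwu, hu₂]
  have hvg : v ≫ M₁.g = C.g := by rw [Category.assoc, hg₂, hwg]
  have hr : Set.range v₂ ⊆ Set.range v := by
    intro y hy
    by_contra hyR
    obtain ⟨ξ, hξR, hξy, hξ⟩ := exists_mx_closed (Set.range v)ᶜ v.isOpenEmbedding.isOpen_range.isClosed_compl hyR
    have hξ₂ : ξ ∈ Set.range v₂ := hξy.mem_open v₂.isOpenEmbedding.isOpen_range hy
    haveI : IsAffineHom v := by
      haveI : IsAffineHom (v ≫ M₁.g) := by rw [hvg]; infer_instance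
      exact IsAffineHom.of_comp v M₁.g
    haveI : IsAffineHom v.opensRange.ι := by
      rw [← Scheme.Hom.isoOpensRange_inv_comp v]; infer_instance
    have hdim := AssLib.ringKrullDim_stalk_le_one v.opensRange hξR fun y hy => hξ y hy
    have hUR : ∀ z ∈ U, z ∈ Set.range v := by
      rintro _ ⟨x, rfl⟩
      exact ⟨C.u x, by rw [← Scheme.Hom.comp_apply, hvu]⟩
    have hξU : ξ ∈ Z := fun h => hξR (hUR ξ h)
    have hξBad : ξ ∈ Bad := by
      refine ⟨hξU, fun y hy hyξ => by_contra fun hne => ?_⟩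
      obtain ⟨z, hzy, hz⟩ := Unibranch.exists_max_specializes y
      have hzU : z ∈ U := by
        obtain ⟨x, -, hx⟩ := M₁.exists_max_pre hz
        exact ⟨x, hx⟩
      exact not_ringKrullDim_le_one hzy (fun h => hy (h ▸ hzU)) hyξ hne hdim
    have hlt : c (Set.range v₂) < c (Set.range v) := by
      refine Finset.card_lt_card ⟨fun a ha => ?_, fun h => ?_⟩
      · simp only [Finset.mem_filter] at ha ⊢
        refine ⟨ha.1, fun ⟨b, hb⟩ => ha.2 ⟨w b, ?_⟩⟩
        rw [← hb, Scheme.Hom.comp_apply]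
      · have := h (Finset.mem_filter.mpr ⟨hBad.mem_toFinset.mpr hξBad, hξR⟩)
        exact (Finset.mem_filter.mp this).2 hξ₂
    exact absurd (le_csSup hKb ⟨C, v, hQC, hvu, hvg, rfl⟩) (not_le.mpr (hc₂ ▸ hlt))
  haveI : Surjective w := ⟨fun m => by
    obtain ⟨b, hb⟩ := hr ⟨m, rfl⟩
    rw [Scheme.Hom.comp_apply] at hb
    exact ⟨b, v₂.isOpenEmbedding.injective hb⟩⟩
  haveI : Epi w.base := (TopCat.epi_iff_surjective _).mpr w.surjective
  haveI : IsIso w := IsOpenImmersion.isIso w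
  refine ⟨inv w ≫ z, ?_, by rw [Category.assoc, hzg, ← hwg, IsIso.inv_hom_id_assoc]⟩
  rw [← hwu, Category.assoc, IsIso.hom_inv_id_assoc, hzu]

end Groth.Agent.EtHullLib
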