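import Groth.Agent.EtHullLib.Fac
import Groth.Agent.S15997

/-! Suprema of admissible factorisations. -/

set_option autoImplicit false
set_option linter.style.haveILetI false

universe u
open CategoryTheory AlgebraicGeometry

namespace Groth.Agent.EtHullLib

variable {X S : Scheme.{u}} [IsNoetherian S] (hS : ∀ s : S, CAlg2.IsGeomUnibranch (S.presheaf.stalk s))
  (hemb : AssSch.NoEmbedded (Coh.structureModule S))
  (f : X ⟶ S) [Flat f] [Surjective f] [LocallyOfFinitePresentation f] [QuasiCompact f] [QuasiSeparated f]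

include hS hemb in
theorem exists_sup (A B : Fac f) : ∃ C : Fac f, C.Maps A ∧ C.Maps B ∧
    ∀ D : Fac f, D.Maps A → D.Maps B → D.Maps C := by
  obtain ⟨E, g, u, v₁, v₂, he, ha, hd, hw, hu₁, hu₂, hg₁, hg₂, huniv⟩ :=
    S15997.result hS hemb f A.E B.E A.g B.g A.u B.u A.w B.w
  refine ⟨⟨E, g, u, he, ha, hd, hw⟩, ⟨v₁, hu₁, hg₁⟩, ⟨v₂, hu₂, hg₂⟩, fun D hDA hDB => ?_⟩
  obtain ⟨w₁, hw₁, hw₁'⟩ := hDA
  obtain ⟨w₂, hw₂, hw₂'⟩ := hDB
  obtain ⟨w, hwu, hw1, -⟩ := huniv D.E D.g D.u w₁ w₂ D.et D.aff D.dom D.w hw₁ hw₂ hw₁' hw₂'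
  refine ⟨w, hwu, ?_⟩
  show w ≫ g = D.g
  rw [← hg₁, ← Category.assoc, hw1, hw₁']

end Groth.Agent.EtHullLib
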